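import Cfsg.Agent.H104.U54.Pair
import Cfsg.Agent.H264.FKS.ResCore
import Cfsg.Agent.H659.HerAlt
import Cfsg.Agent.H824.ProdLem
import Cfsg.Agent.H436.TTPsl2
import Cfsg.Agent.H421.PglSp
import Cfsg.Agent.S0815
import Cfsg.Agent.OrdDiv.Main

/-!
# Almost simple subgroups of `PSU₅(4)` (task 3778, for S3502)

* `names` : a simple group of order dividing `|PSU₅(4)|`, whose automorphism group has order divisible by `13 · 17`, has
  the order of `PSU₅(4)` or is `PSU₄(4)`
* `res` : `M` almost simple, of order divisible by `13 · 17`: no element of order `39`, `41 ∤ |M|`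
-/

set_option autoImplicit false
set_option linter.unusedSectionVars false

namespace Cfsg.Agent.H104.U54

open Cfsg Cfsg.Geo Cfsg.Agent.OrdDiv

/-- `|PSU₅(4)|` -/
def NN : ℕ := 53443952640000

theorem card_u54 {F : Type*} [Field F] [Fintype F] (hF : Fintype.card F = 4 ^ 2) : Nat.card (PSU 5 F 4) = NN := by
  have h := S0280.result hF 5 (by norm_num)
  rw [show Nat.gcd 5 (4 + 1) = 5 by decide] at h
  simp only [Finset.prod_range_succ, Finset.prod_range_zero] at h
  norm_num [Nat.even_iff] at h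
  unfold NN
  omega

theorem card_dvd_aut {R : Type*} [Group R] [Finite R] (S : Subgroup R) [S.Normal]
    (hC : Subgroup.centralizer (S : Set R) = ⊥) : Nat.card R ∣ Nat.card (MulAut S) := by
  have hinj : Function.Injective (MulAut.conjNormal : R →* MulAut S) := by
    rw [← MonoidHom.ker_eq_bot_iff, eq_bot_iff]
    intro x hx
    rw [← hC, Subgroup.mem_centralizer_iff]
    intro y hy
    have h1 := DFunLike.congr_fun ((MonoidHom.mem_ker).1 hx) ⟨y, hy⟩
    have h2 := congrArg Subtype.val h1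
    rw [MulAut.conjNormal_apply, MulAut.one_apply] at h2
    exact (mul_inv_eq_iff_eq_mul.1 h2).symm
  exact Subgroup.card_dvd_of_injective _ hinj

theorem card_mulAut_congr {S T : Type*} [Group S] [Group T] (e : S ≃* T) :
    Nat.card (MulAut S) = Nat.card (MulAut T) := Nat.card_congr (MulAut.congr e).toEquiv

theorem cands_eq : (cands [(2, 20), (3, 2), (5, 4), (13, 1), (17, 1), (41, 1)] NN) =
    [.alt 5, .alt 6, .psl 2 4, .psl 2 16, .psl 2 9, .psl 2 5, .psl 2 25, .psl 2 17, .psp 2 4, .psp 2 5, .psu 3 4,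
      .psu 4 4, .psu 5 4] := by decide +kernel

/-- the automorphisms of `PSL₂(q)` -/
theorem psl_case {S : Type} [Group S] {q p f : ℕ} (hp : p.Prime) (hq : q = p ^ f) (hf : 1 ≤ f) (h4 : 4 ≤ q)
    (h : OrdDiv.Real (.psl 2 q) S) : Nat.card (MulAut S) = Nat.gcd 2 (q - 1) * f * Nat.card S := by
  obtain ⟨F, i1, i2, hF, ⟨e⟩⟩ := h
  have hp' := Fact.mk hp
  rw [card_mulAut_congr e, Nat.card_congr e.toEquiv, H436.TT.card_mulAut p f (hF.trans hq) hf (by rw [hF]; exact h4),
    hF]

theorem psu_case {S : Type} [Group S] {n : ℕ} (hn : 3 ≤ n) (h : OrdDiv.Real (.psu n 4) S) :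
    Nat.card (MulAut S) = Nat.gcd n 5 * 4 * Nat.card S := by
  obtain ⟨F, i1, i2, hF, ⟨e⟩⟩ := h
  have hp' : Fact (Nat.Prime 2) := ⟨Nat.prime_two⟩
  rw [card_mulAut_congr e, Nat.card_congr e.toEquiv, S0815.result 2 2 (by norm_num) (by norm_num) hF n hn (by omega)]

theorem psp_case {S : Type} [Group S] {q p f : ℕ} (hp : p.Prime) (hq : q = p ^ f) (hf : 1 ≤ f) (h3 : 3 ≤ q)
    (h : OrdDiv.Real (.psp 2 q) S) : Nat.card (MulAut S) = (if 2 = 2 ∧ p = 2 then 2 else 1) *
      (f * (q ^ (2 ^ 2) * ∏ i ∈ Finset.range 2, (q ^ (2 * (i + 1)) - 1))) := by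
  obtain ⟨F, i1, i2, hF, ⟨e⟩⟩ := h
  rw [card_mulAut_congr e, H421.PglSp.card_mulAut_psp hp hf (hF.trans hq) (le_refl 2) (fun _ => by rw [hF]; exact h3),
    hF]

/-- **The names.** -/
theorem names (tab : OrderTable.{0}) {S : Type} [Group S] (hK : IsKnownSimple' S) (hna : ¬ ∀ a b : S, a * b = b * a)
    (hd : Nat.card S ∣ NN) (h13 : 13 ∣ Nat.card (MulAut S)) (h17 : 17 ∣ Nat.card (MulAut S)) :
    Nat.card S = NN ∨ (Nat.card S = 1018368000 ∧ Nat.card (MulAut S) = 4 * Nat.card S ∧
      ∃ (F : Type) (_ : Field F) (_ : Fintype F), Fintype.card F = 4 ^ 2 ∧ Nonempty (S ≃* PSU 4 F 4)) := by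
  obtain ⟨g, hg, hr, hc⟩ := exists_good tab hK hna (l := [(2, 20), (3, 2), (5, 4), (13, 1), (17, 1), (41, 1)])
    (N := NN) (by decide +kernel) hd
  rw [cands_eq] at hg
  simp only [List.mem_cons, List.not_mem_nil, or_false] at hg
  rcases hg with rfl | rfl | rfl | rfl | rfl | rfl | rfl | rfl | rfl | rfl | rfl | rfl | rfl
  · exfalso
    obtain ⟨e⟩ := hr
    rw [card_mulAut_congr e, H659.HerAlt.card_aut (le_refl 5) (by norm_num)] at h13
    revert h13
    decide
  · exfalso
    obtain ⟨e⟩ := hr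
    rw [card_mulAut_congr e, H824.ProdLem.card_aut_a6] at h13
    norm_num at h13
  · exfalso
    rw [psl_case (p := 2) (f := 2) Nat.prime_two (by norm_num) (by norm_num) (by norm_num) hr, hc,
      show ordN (.psl 2 4) = 60 by decide +kernel] at h13
    norm_num at h13
  · exfalso
    rw [psl_case (p := 2) (f := 4) Nat.prime_two (by norm_num) (by norm_num) (by norm_num) hr, hc,
      show ordN (.psl 2 16) = 4080 by decide +kernel] at h13
    norm_num at h13
  · exfalso
    rw [psl_case (p := 3) (f := 2) Nat.prime_three (by norm_num) (by norm_num) (by norm_num) hr, hc,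
      show ordN (.psl 2 9) = 360 by decide +kernel] at h13
    norm_num at h13
  · exfalso
    rw [psl_case (p := 5) (f := 1) (by norm_num) (by norm_num) (by norm_num) (by norm_num) hr, hc,
      show ordN (.psl 2 5) = 60 by decide +kernel] at h13
    norm_num at h13
  · exfalso
    rw [psl_case (p := 5) (f := 2) (by norm_num) (by norm_num) (by norm_num) (by norm_num) hr, hc,
      show ordN (.psl 2 25) = 7800 by decide +kernel] at h17
    norm_num at h17
  · exfalso
    rw [psl_case (p := 17) (f := 1) (by norm_num) (by norm_num) (by norm_num) (by norm_num) hr, hc,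
      show ordN (.psl 2 17) = 2448 by decide +kernel] at h13
    norm_num at h13
  · exfalso
    rw [psp_case (p := 2) (f := 2) Nat.prime_two (by norm_num) (by norm_num) (by norm_num) hr] at h13
    simp only [Finset.prod_range_succ, Finset.prod_range_zero] at h13
    norm_num at h13
  · exfalso
    rw [psp_case (p := 5) (f := 1) (by norm_num) (by norm_num) (by norm_num) (by norm_num) hr] at h17
    simp only [Finset.prod_range_succ, Finset.prod_range_zero] at h17
    norm_num at h17
  · exfalso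
    rw [psu_case (le_refl 3) hr, hc, show ordN (.psu 3 4) = 62400 by decide +kernel] at h17
    norm_num at h17
  · right
    refine ⟨by rw [hc]; decide +kernel, ?_, ?_⟩
    · rw [psu_case (by norm_num) hr]
      norm_num
    · obtain ⟨F, i1, i2, hF, e⟩ := hr
      exact ⟨F, i1, i2, hF, e⟩
  · left
    rw [hc]
    decide +kernel

/-- **Almost simple subgroups.** -/
theorem res (tab : OrderTable.{0}) (hK : ∀ (X : Type) [Group X] [Finite X] [IsSimpleGroup X], Cfsg.IsKnownSimple' X)
    {F : Type} [Field F] [Fintype F] (hF : Fintype.card F = 4 ^ 2) {M : Subgroup (PSU 5 F 4)} (hM : M ≠ ⊤)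
    {P : Subgroup (GL (Fin 5) F)} (hP : H264.FKS.SocleOf M P) (h13 : 13 ∣ Nat.card M) (h17 : 17 ∣ Nat.card M) :
    ¬ 41 ∣ Nat.card M ∧ ∀ z ∈ M, orderOf z ≠ 39 := by
  obtain ⟨S, hSn, hSs, hna, hC, -⟩ := hP
  have hfin : Finite (PSU 5 F 4) := Quotient.finite _
  have hMT : Nat.card M ∣ NN := by
    rw [← card_u54 hF]
    exact Subgroup.card_subgroup_dvd_card M
  have hSM : Nat.card S ∣ Nat.card M := Subgroup.card_subgroup_dvd_card S
  have hMA := card_dvd_aut S hC
  have hna' : ¬ ∀ a b : S, a * b = b * a := fun h => hna ⟨⟨h⟩⟩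
  rcases names tab (hK S) hna' (hSM.trans hMT) (h13.trans hMA) (h17.trans hMA) with h | ⟨h1, h2, F', i1, i2, hF', ⟨e⟩⟩
  · exfalso
    apply hM
    apply Subgroup.eq_top_of_card_eq
    rw [card_u54 hF]
    rw [h] at hSM
    exact Nat.dvd_antisymm hMT hSM
  · rw [h2, h1] at hMA
    refine ⟨fun h41 => ?_, fun z hz ho => ?_⟩
    · have := h41.trans hMA
      norm_num at this
    · have hidx : S.index ∣ 4 := by
        have h3 := S.card_mul_index
        rw [h1] at h3
        rw [← h3, mul_comm 4] at hMA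
        exact Nat.dvd_of_mul_dvd_mul_left (by norm_num) hMA
      obtain ⟨y, hy⟩ : ∃ y : M, orderOf y = 39 := ⟨⟨z, hz⟩, by rw [Subgroup.orderOf_mk, ho]⟩
      have h4 : ∀ k, S.index ∣ k → y ^ k ∈ S := by
        rintro _ ⟨k, rfl⟩
        rw [pow_mul]
        exact S.pow_mem (S.pow_index_mem _) k
      have h4 := h4 4 hidx
      have h5 : orderOf (y ^ 4) = 39 := by
        rw [orderOf_pow, hy]
        norm_num
      apply no_ord_four hF' (e ⟨_, h4⟩)
      rw [MulEquiv.orderOf_eq, Subgroup.orderOf_mk, h5]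

end Cfsg.Agent.H104.U54
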