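import Cfsg.Agent.H104.U54.Pair

/-!
# Geometric subgroups of `SU₅(4)` (task 3778, for S3502)

* `geo_fortyone` : `41` does not divide the order of a geometric subgroup whose order is divisible by `17`
* `geo_point` : a geometric subgroup of order divisible by `13 · 17` is the stabiliser of a nondegenerate point
-/

set_option autoImplicit false
set_option linter.unusedSectionVars false

namespace Cfsg.Agent.H104.U54

open Cfsg Cfsg.Geo Module Cfsg.Agent.H951 Cfsg.Agent.H251.GeoU Cfsg.Agent.H251.GeoCard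
open scoped Matrix MatrixGroups

variable {F : Type*} [Field F] [Fintype F]

theorem not_div_thirteen {k : ℕ} (hk : k ≤ 2) : ¬ Div 13 (4 ^ 2) k := by
  rintro ⟨i, h1, h2, h3⟩
  have h4 : i ≤ 2 := h2.trans hk
  interval_cases i <;> norm_num at h3

theorem sub_cases (hF : Fintype.card F = 4 ^ 2) {F₀ : Subfield F} {P : GL (Fin 5) F}
    (hc : Fintype.card F = Nat.card F₀ ^ 2) (h : 13 ∣ Nat.card (subfieldSubgroup F₀ P)) : False := by
  have h1 : Nat.card F₀ = 4 := Nat.pow_left_injective two_ne_zero (by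
    change Nat.card F₀ ^ 2 = 4 ^ 2
    rw [← hc, hF])
  rcases subfield (s := 13) (by norm_num) (by rw [nat_card_eq hF]; norm_num) h with h2 | ⟨i, h2, h3, h4⟩
  · rw [nat_card_eq hF] at h2
    norm_num at h2
  · rw [Fintype.card_fin] at h3
    rw [h1] at h4
    interval_cases i <;> norm_num at h4

/-- totally singular subspaces -/
theorem kill_ts5 (hF : Fintype.card F = 4 ^ 2) {W : Submodule F (Fin 5 → F)} (hW0 : W ≠ ⊥)
    (hW : IsTotallySingularFor (hermForm 5 F 4) W)
    (h13 : 13 ∣ Nat.card (subspaceStabilizer W ⊓ Cfsg.GU 5 F 4 : Subgroup (GL (Fin 5) F)))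
    (h17 : 17 ∣ Nat.card (subspaceStabilizer W ⊓ Cfsg.GU 5 F 4 : Subgroup (GL (Fin 5) F))) : False := by
  have hf13 : Fact (Nat.Prime 13) := ⟨by norm_num⟩
  have hf17 : Fact (Nat.Prime 17) := ⟨by norm_num⟩
  have hB := H950.frm_herm hF 5
  have hV := H950.nd_top hF 5
  have h2 : 2 * finrank F W ≤ 5 := by
    have h3 := hB.two_mul_finrank_le hV le_top (W := W) hW
    rwa [finrank_top, finrank_fintype_fun_eq_card, Fintype.card_fin] at h3
  have hpos : 0 < finrank F W := by
    rw [Nat.pos_iff_ne_zero, Ne, Submodule.finrank_eq_zero]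
    exact hW0
  have key : ∀ (s : ℕ) [hs : Fact s.Prime] (hsq : ¬ s ∣ 4) {x : Module.End F (Fin 5 → F)}
      (hx : Isom (hermForm 5 F 4) x) (hxs : x ^ s = 1) (hle : W ≤ fx x) (hd : finrank F ↥(fx x) ≤ finrank F W),
      False := by
    intro s hs hsq x hx hxs hle hd
    have heq : W = fx x := Submodule.eq_of_le_of_finrank_eq hle (le_antisymm (Submodule.finrank_mono hle) hd)
    have hnd := hx.nd_fx hB (natCast_ne hF hs.out hsq) hxs hV
    rw [← heq] at hnd
    obtain ⟨w, hw, hw0⟩ := W.ne_bot_iff.1 hW0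
    obtain ⟨v, hv, hwv⟩ := hnd w hw hw0
    exact hwv (hW w hw v hv)
  rcases Nat.lt_or_ge (finrank F W) 2 with h1 | h1
  · obtain ⟨g, hg, hi, hgs, hg1⟩ := exists_elt hf17.out h17 inf_le_right
    have hfix := fix_le hF (by norm_num) hi hgs hg1
    rw [ord_seventeen] at hfix
    refine key 17 (by norm_num) hi hgs ?_ (by omega)
    apply le_fx (natCast_ne hF hf17.out (by norm_num)) hgs (inv_of_mem hg.1)
    rw [hF, show orderOf ((4 ^ 2 : ℕ) : ZMod 17) = 2 from ord_sq_even (q := 4) ord_seventeen (by decide)]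
    exact h1
  · obtain ⟨g, hg, hi, hgs, hg1⟩ := exists_elt hf13.out h13 inf_le_right
    have hfix := fix_le hF (by norm_num) hi hgs hg1
    rw [ord_thirteen] at hfix
    refine key 13 (by norm_num) hi hgs ?_ (by omega)
    apply le_fx (natCast_ne hF hf13.out (by norm_num)) hgs (inv_of_mem hg.1)
    rw [hF, show orderOf ((4 ^ 2 : ℕ) : ZMod 13) = 3 from ord_sq_odd (q := 4) ord_thirteen (by decide)]
    omega

/-- nondegenerate subspaces -/
theorem kill_nd5 (hF : Fintype.card F = 4 ^ 2) {W : Submodule F (Fin 5 → F)} (hW0 : W ≠ ⊥)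
    (hW : Nd (hermForm 5 F 4) W) (hW2 : 2 * finrank F W < 5)
    (h17 : 17 ∣ Nat.card (subspaceStabilizer W ⊓ Cfsg.GU 5 F 4 : Subgroup (GL (Fin 5) F))) : finrank F W = 1 := by
  have hf17 : Fact (Nat.Prime 17) := ⟨by norm_num⟩
  have hpos : 0 < finrank F W := by
    rw [Nat.pos_iff_ne_zero, Ne, Submodule.finrank_eq_zero]
    exact hW0
  obtain ⟨g, hg, hi, hgs, hg1⟩ := exists_elt hf17.out h17 inf_le_right
  have hfix := fix_le hF (by norm_num) hi hgs hg1
  rw [ord_seventeen] at hfix
  obtain ⟨b, hb⟩ := nd_mod hF (s := 17) (by norm_num) hi hgs (inv_of_mem hg.1) hW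
  rw [ord_seventeen] at hb
  have h1 : finrank F ↥(W ⊓ fx (Matrix.toLin' (g : Matrix (Fin 5) (Fin 5) F))) ≤
      finrank F ↥(fx (Matrix.toLin' (g : Matrix (Fin 5) (Fin 5) F))) := Submodule.finrank_mono inf_le_right
  omega

/-- **Geometric subgroups of order divisible by `13 · 17`.** -/
theorem geo_point (hF : Fintype.card F = 4 ^ 2) {M : Subgroup (GL (Fin 5) F)} (hM : InUnitaryClass 5 F 4 M)
    (h13 : 13 ∣ Nat.card M) (h17 : 17 ∣ Nat.card M) :
    ¬ 41 ∣ Nat.card M ∧ ∃ W : Submodule F (Fin 5 → F), finrank F W = 1 ∧ Nd (hermForm 5 F 4) W ∧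
      M ≤ subspaceStabilizer W := by
  have hp13 : Nat.Prime 13 := by norm_num
  have hcF : ¬ 13 ∣ Nat.card F := by rw [nat_card_eq hF]; norm_num
  rcases hM with hM | hM | hM | hM
  · rcases hM with hM | hM | hM | hM | hM | hM | hM | hM
    · obtain ⟨W, hW0, hW, rfl⟩ := hM
      exact (kill_ts5 hF hW0 hW h13 h17).elim
    · obtain ⟨W, hW0, hW', hW2, rfl⟩ := hM
      have hW : Nd (hermForm 5 F 4) W := fun u hu hu0 => (hW' u hu hu0).2
      have h1 := kill_nd5 hF hW0 hW hW2 h17
      refine ⟨fun h41 => ?_, W, h1, hW, inf_le_left⟩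
      obtain ⟨h2, -⟩ := kill_nd hF (s := 41) (m := 5) (by norm_num) ord_fortyone (by decide) (by norm_num)
        (by norm_num) hW0 hW2 h41
      omega
    · obtain ⟨t, k, D, hD, rfl⟩ := hM
      exfalso
      have htk : t * k = 5 := by rw [H918.decomp_card hD.decomp, Fintype.card_fin]
      have ht2 := hD.decomp.two_le
      have hk := hD.decomp.pos
      rcases decomp hD.decomp hp13 hcF (dvd_left h13) with h1 | h1
      · have : t ≤ t * k := Nat.le_mul_of_pos_right _ hk
        omega
      · rw [nat_card_eq hF] at h1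
        exact not_div_thirteen (k := k) (by nlinarith) h1
    · obtain ⟨k, D, hk, hD, -, rfl⟩ := hM
      exfalso
      have htk : 2 * k = 5 := by rw [H918.decomp_card hD, Fintype.card_fin]
      omega
    · obtain ⟨F₀, r, P, hr, hro, hc, -, rfl⟩ := hM
      exfalso
      have h1 : Nat.card F₀ ∣ 2 ^ 4 := by
        have h2 : Nat.card F₀ ∣ Fintype.card F := hc ▸ dvd_pow_self _ hr.ne_zero
        rwa [hF] at h2
      obtain ⟨a, ha, ha'⟩ := (Nat.dvd_prime_pow Nat.prime_two).1 h1
      rw [hF, ha', ← pow_mul, show 4 ^ 2 = 2 ^ 4 by norm_num] at hc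
      have h3 := Nat.pow_right_injective (le_refl 2) hc
      have h4 : r ∣ 2 ^ 2 := by
        rw [show 2 ^ 2 = a * r from h3]
        exact dvd_mul_left _ _
      have h5 := (Nat.prime_dvd_prime_iff_eq hr Nat.prime_two).1 (hr.dvd_of_dvd_pow h4)
      rw [h5] at hro
      exact absurd hro (by decide)
    · obtain ⟨F₀, P, -, hc, -, rfl⟩ := hM
      exact (sub_cases hF hc (dvd_left h13)).elim
    · obtain ⟨F₀, P, ζ, -, hc, -, -, -, -, rfl⟩ := hM
      exact (sub_cases hF hc (dvd_left h13)).elim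
    · obtain ⟨r, R, p', e, k, hR, habs, -, -, -, hc, rfl⟩ := hM
      have ht : H920.IsType r k R := by
        rcases hc with ⟨h1, h2, -, h3⟩ | ⟨h1, -, h2, h3⟩
        · exact Or.inl ⟨h1, h2, h3⟩
        · exact Or.inr ⟨h1, h2, h3⟩
      exfalso
      have hne : Nonempty (Fin 5) := ⟨0⟩
      have hcard := H920.card_of_type hR habs ht
      rw [Fintype.card_fin] at hcard
      have hk : 1 ≤ k := by
        by_contra hk0
        have : k = 0 := by omega
        rw [this, pow_zero] at hcard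
        omega
      rcases symplecticType hR habs ht hk hp13 (dvd_left h13) with h1 | h1 | h1
      · have h2 : r ≤ r ^ k := Nat.le_self_pow (by omega) r
        omega
      · rw [nat_card_eq hF] at h1
        norm_num at h1
      · omega
  · obtain ⟨r, K, hr, hro, hK, -, rfl⟩ := hM
    exfalso
    have hr3 : 3 ≤ r := by
      have := hr.two_le
      obtain ⟨k, hk⟩ := hro
      omega
    obtain ⟨h1, -⟩ := kill_field_odd hF (s := 17) (by norm_num) ord_seventeen (by decide) (by norm_num) hr hr3 hK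
      (dvd_left h17)
    omega
  · obtain ⟨n₁, n₂, e, P, f₁, f₂, h2, hlt, -, -, -, rfl⟩ := hM
    exfalso
    have hcard : 5 = n₁ * n₂ := by
      have := Fintype.card_congr e
      simpa using this
    nlinarith
  · obtain ⟨k, t, e, P, f₁, hk, ht, -, -, -, rfl⟩ := hM
    exfalso
    have hcard : 5 = k ^ t := by
      have := Fintype.card_congr e
      simpa using this
    have h4 : k ^ 2 ≤ k ^ t := Nat.pow_le_pow_right (by omega) ht
    nlinarith

end Cfsg.Agent.H104.U54
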