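import Cfsg.Agent.H251.GeoU
import Cfsg.Agent.H251.GeoUMain
import Cfsg.Agent.LieClassical.SUBasic

/-!
# Elements of order `39` of `PSU_n(4)`, `n ≤ 5` (task 3778, for S3502)

* `no_pair` : commuting isometries `x`, `y` of `F^n`, `n ≤ 5`, of order `13` and `3`: `y` is not trivial on `C_V(x)`
* `exists_pair` : the two isometries of an element of order `39` of `PSU_n(4)`
* `no_ord_four` : `PSU₄(4)` has no element of order `39`
-/

set_option autoImplicit false
set_option linter.unusedSectionVars false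

namespace Cfsg.Agent.H104.U54

open Cfsg Cfsg.Geo Module Cfsg.Agent.H951 Cfsg.Agent.H251.GeoU Cfsg.Agent.H251.GeoCard
open scoped Matrix MatrixGroups

theorem ord_thirteen : orderOf (-((4 : ℕ) : ZMod 13)) = 3 := by
  have h : Fact (Nat.Prime 3) := ⟨by norm_num⟩
  exact orderOf_eq_prime (by decide) (by decide)

theorem ord_three : orderOf (-((4 : ℕ) : ZMod 3)) = 2 := by
  have h : Fact (Nat.Prime 2) := ⟨by norm_num⟩
  exact orderOf_eq_prime (by decide) (by decide)

theorem ord_fortyone : orderOf (-((4 : ℕ) : ZMod 41)) = 5 := by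
  have h : Fact (Nat.Prime 5) := ⟨by norm_num⟩
  exact orderOf_eq_prime (by decide) (by decide)

theorem ord_seventeen : orderOf (-((4 : ℕ) : ZMod 17)) = 4 := by
  have h : Fact (Nat.Prime 2) := ⟨by norm_num⟩
  exact orderOf_eq_prime_pow (p := 2) (n := 1) (by decide) (by decide)

section Iso

variable {F : Type*} [Field F] [Fintype F] {n q s : ℕ}

/-- `dim U ≡ dim C_U(x)` modulo the order of `-q` modulo `s`, for `U` nondegenerate. -/
theorem nd_mod (hF : Fintype.card F = q ^ 2) [hs : Fact s.Prime] (hsq : ¬ s ∣ q)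
    {x : Module.End F (Fin n → F)} (hx : Isom (hermForm n F q) x) (hxs : x ^ s = 1) {U : Submodule F (Fin n → F)}
    (hU : Inv x U) (hn : Nd (hermForm n F q) U) :
    ∃ b, finrank F U = finrank F ↥(U ⊓ fx x) + orderOf (-(q : ZMod s)) * b := by
  have hr := natCast_ne hF hs.out hsq
  have hB := H950.frm_herm hF n
  have h1 := hx.nd_inf_cm hB hr hxs hU hn
  have h2 : U ⊓ cm x ⊓ fx x = ⊥ := by
    rw [inf_assoc, inf_comm (cm x), (isCompl_fx_cm hr hxs).inf_eq_bot, inf_bot_eq]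
  obtain ⟨b, hb⟩ := H950.ord_neg_dvd hF hsq hx hxs (hU.inf inv_cm) h1 h2
  refine ⟨b, ?_⟩
  rw [← hb, ← finrank_sup_of_disj (W := U ⊓ fx x) (U := U ⊓ cm x), inf_fx_sup_inf_cm hr hxs hU]
  rw [inf_inf_inf_comm, (isCompl_fx_cm hr hxs).inf_eq_bot, inf_bot_eq]

theorem inv_fx_of_comm {V : Type*} [AddCommGroup V] [Module F V] {x y : Module.End F V} (h : x * y = y * x) :
    Inv y (fx x) := by
  intro w hw
  rw [mem_fx] at hw ⊢
  rw [← Module.End.mul_apply, h, Module.End.mul_apply, hw]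

theorem inv_cm_of_comm {V : Type*} [AddCommGroup V] [Module F V] {x y : Module.End F V} (h : x * y = y * x) :
    Inv y (cm x) := by
  intro w hw
  obtain ⟨u, rfl⟩ := mem_cm.1 hw
  refine mem_cm.2 ⟨y u, ?_⟩
  rw [map_sub, ← Module.End.mul_apply, h, Module.End.mul_apply]

theorem eq_one_of_fx {V : Type*} [AddCommGroup V] [Module F V] {x : Module.End F V} (h : fx x = ⊤) : x = 1 := by
  apply LinearMap.ext
  intro v
  have h1 : v ∈ fx x := by rw [h]; trivial
  exact mem_fx.1 h1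

/-- commuting isometries `x`, `y` of order `13` and `3` -/
theorem no_pair (hF : Fintype.card F = 4 ^ 2) (hn : n ≤ 5) {x y : Module.End F (Fin n → F)}
    (hx : Isom (hermForm n F 4) x) (hy : Isom (hermForm n F 4) y) (hc : x * y = y * x) (hx13 : x ^ 13 = 1)
    (hx1 : x ≠ 1) (hy3 : y ^ 3 = 1) (hfix : fx x ≤ fx y) : y = 1 := by
  have h13 : Fact (Nat.Prime 13) := ⟨by norm_num⟩
  have h3 : Fact (Nat.Prime 3) := ⟨by norm_num⟩
  have hB := H950.frm_herm hF n
  have hV := H950.nd_top hF n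
  have hr13 := natCast_ne hF h13.out (by norm_num)
  have hr3 := natCast_ne hF h3.out (by norm_num)
  -- `dim [V, x] = 3`
  have hdim := finrank_fx_cm hr13 hx13
  rw [finrank_fintype_fun_eq_card, Fintype.card_fin] at hdim
  have hle := fix_le hF (by norm_num) hx hx13 hx1
  rw [ord_thirteen] at hle
  obtain ⟨b, hb⟩ := nd_mod hF (s := 13) (by norm_num) hx hx13 (inv_top) hV
  rw [top_inf_eq, finrank_top, finrank_fintype_fun_eq_card, Fintype.card_fin, ord_thirteen] at hb
  have hcm : finrank F ↥(cm x) = 3 := by omega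
  -- `C_{[V, x]}(y)`
  have hcinv : Inv y (cm x) := inv_cm_of_comm hc
  obtain ⟨c, hc1⟩ := nd_mod hF (s := 3) (by norm_num) hy hy3 hcinv (hx.nd_cm hB hr13 hx13 hV)
  rw [ord_three, hcm] at hc1
  have hinv : Inv x (cm x ⊓ fx y) := inv_cm.inf (inv_fx_of_comm hc.symm)
  obtain ⟨d, hd⟩ := H950.exists_finrank_eq hr13 hx13 hinv
  have h0 : cm x ⊓ fx y ⊓ fx x = ⊥ := by
    rw [inf_assoc, inf_comm (fx y), ← inf_assoc, inf_comm (cm x), (isCompl_fx_cm hr13 hx13).inf_eq_bot, bot_inf_eq]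
  have hord : orderOf ((Fintype.card F : ℕ) : ZMod 13) = 3 := by
    rw [hF]
    exact ord_sq_odd (q := 4) ord_thirteen (by decide)
  rw [h0, finrank_bot, hord] at hd
  have h5 : finrank F ↥(cm x ⊓ fx y) = 3 := by omega
  have h6 : cm x ⊓ fx y = cm x := Submodule.eq_of_le_of_finrank_eq inf_le_left (by rw [h5, hcm])
  apply eq_one_of_fx
  rw [eq_top_iff, ← (isCompl_fx_cm hr13 hx13).sup_eq_top]
  exact sup_le hfix (by rw [← h6]; exact inf_le_right)

/-- the dimension of `C_V(x)`, `x` of order `13` -/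
theorem fx_thirteen (hF : Fintype.card F = 4 ^ 2) (hn : n ≤ 5) {x : Module.End F (Fin n → F)}
    (hx : Isom (hermForm n F 4) x) (hx13 : x ^ 13 = 1) (hx1 : x ≠ 1) : finrank F ↥(fx x) + 3 = n := by
  have h13 : Fact (Nat.Prime 13) := ⟨by norm_num⟩
  have hV := H950.nd_top hF n
  have hle := fix_le hF (by norm_num) hx hx13 hx1
  rw [ord_thirteen] at hle
  obtain ⟨b, hb⟩ := nd_mod hF (s := 13) (by norm_num) hx hx13 (inv_top) hV
  rw [top_inf_eq, finrank_top, finrank_fintype_fun_eq_card, Fintype.card_fin, ord_thirteen] at hb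
  omega

/-- `C_V(x)` of dimension at most `2`, with a nonzero vector fixed by `y` if the dimension is `2` -/
theorem fx_le_fx (hF : Fintype.card F = 4 ^ 2) {x y : Module.End F (Fin n → F)}
    (hx : Isom (hermForm n F 4) x) (hy : Isom (hermForm n F 4) y) (hc : x * y = y * x) (hx13 : x ^ 13 = 1)
    (hy3 : y ^ 3 = 1) (h : finrank F ↥(fx x) < finrank F ↥(fx x ⊓ fx y) + 2) : fx x ≤ fx y := by
  have h13 : Fact (Nat.Prime 13) := ⟨by norm_num⟩
  have h3 : Fact (Nat.Prime 3) := ⟨by norm_num⟩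
  have hB := H950.frm_herm hF n
  have hV := H950.nd_top hF n
  have hr13 := natCast_ne hF h13.out (by norm_num)
  obtain ⟨c, hc1⟩ := nd_mod hF (s := 3) (by norm_num) hy hy3 (inv_fx_of_comm hc) (hx.nd_fx hB hr13 hx13 hV)
  rw [ord_three] at hc1
  have h6 : fx x ⊓ fx y = fx x := Submodule.eq_of_le_of_finrank_eq inf_le_left (by omega)
  rw [← h6]
  exact inf_le_right

end Iso

section Lift

open Cfsg.Agent.LieClassical.SUBasic

variable {F : Type*} [Field F] [Fintype F] {n : ℕ}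

theorem center_pow (hF : Fintype.card F = 4 ^ 2) (hn : 3 ≤ n) {z : SU n F 4} (hz : z ∈ Subgroup.center (SU n F 4)) :
    z ^ 5 = 1 := by
  obtain ⟨c, hcn, hcq, rfl⟩ := (mem_center_SU_iff hF hn z).1 hz
  apply Subtype.ext
  apply Subtype.ext
  rw [SubmonoidClass.coe_pow, Matrix.SpecialLinearGroup.coe_pow, coe_suScalar, Matrix.diagonal_pow]
  have h : ((fun _ : Fin n => c) ^ 5) = fun _ => (1 : F) := by
    funext i
    exact hcq
  rw [h, Matrix.diagonal_one]
  rfl

/-- lifts of elements of order `39` -/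
theorem exists_lift (hF : Fintype.card F = 4 ^ 2) (hn : 3 ≤ n) {z : PSU n F 4} (hz : z ^ 39 = 1) :
    ∃ B : SU n F 4, QuotientGroup.mk' (Subgroup.center (SU n F 4)) B = z ∧ B ^ 39 = 1 := by
  obtain ⟨A, rfl⟩ := QuotientGroup.mk'_surjective _ z
  have h1 : A ^ 39 ∈ Subgroup.center (SU n F 4) := by
    rw [← QuotientGroup.eq_one_iff]
    exact hz
  refine ⟨A ^ 40, ?_, ?_⟩
  · rw [map_pow, pow_succ, hz, one_mul]
  · have h2 := center_pow hF hn h1
    rw [← pow_mul, show 40 * 39 = 39 * 5 * 8 by norm_num, pow_mul, pow_mul, h2, one_pow]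

/-- the endomorphism of a matrix -/
noncomputable def L (g : GL (Fin n) F) : Module.End F (Fin n → F) := Matrix.toLin' (g : Matrix (Fin n) (Fin n) F)

theorem L_pow (g : GL (Fin n) F) (k : ℕ) : L (g ^ k) = L g ^ k := toLin_pow g k

theorem L_one : L (1 : GL (Fin n) F) = 1 := by
  unfold L
  rw [Units.val_one, Matrix.toLin'_one]
  rfl

theorem L_mul (g h : GL (Fin n) F) : L (g * h) = L g * L h := by
  unfold L
  rw [Units.val_mul, Matrix.toLin'_mul]
  rfl

theorem L_inj {g : GL (Fin n) F} (h : L g = 1) : g = 1 := by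
  apply Units.ext
  apply Matrix.toLin'.injective
  change L g = L 1
  rw [h, L_one]

theorem L_isom {g : GL (Fin n) F} {q : ℕ} (hg : g ∈ Cfsg.GU n F q) : Isom (hermForm n F q) (L g) := by
  intro u v
  unfold L
  rw [Matrix.toLin'_apply, Matrix.toLin'_apply]
  exact H918.mem_GU.1 hg u v

/-- an element of order `39` of `M ≤ PSU_n(4)` -/
theorem exists_pair (hF : Fintype.card F = 4 ^ 2) (hn : 3 ≤ n) {M : Subgroup (PSU n F 4)} {z : PSU n F 4}
    (hz : orderOf z = 39) (hM : z ∈ M) :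
    ∃ a b : GL (Fin n) F, a ∈ pre M ∧ b ∈ pre M ∧ Isom (hermForm n F 4) (L a) ∧ Isom (hermForm n F 4) (L b) ∧
      L a * L b = L b * L a ∧ L a ^ 13 = 1 ∧ L b ^ 3 = 1 ∧ L a ≠ 1 ∧ L b ≠ 1 := by
  have hz39 : z ^ 39 = 1 := by rw [← hz]; exact pow_orderOf_eq_one z
  obtain ⟨B, hB, hB39⟩ := exists_lift hF hn hz39
  set g := H918.suHom n F 4 B with hg
  have hgu : ∀ k, g ^ k ∈ pre M := by
    intro k
    refine ⟨B ^ k, ?_, by rw [map_pow]⟩
    rw [Subgroup.coe_comap, Set.mem_preimage, map_pow, hB]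
    exact M.pow_mem hM k
  have hgu' : ∀ k, g ^ k ∈ Cfsg.GU n F 4 := fun k => (pre_le M (hgu k)).1
  have h39 : g ^ 39 = 1 := by rw [hg, ← map_pow, hB39, map_one]
  have hne : ∀ k, z ^ k ≠ 1 → L (g ^ k) ≠ 1 := by
    intro k hk h1
    have h2 := L_inj h1
    rw [hg, ← map_pow] at h2
    have h3 : B ^ k = 1 := H918.suHom_injective (by rw [h2, map_one])
    apply hk
    rw [← hB, ← map_pow, h3, map_one]
  refine ⟨g ^ 3, g ^ 13, hgu 3, hgu 13, L_isom (hgu' 3), L_isom (hgu' 13), ?_, ?_, ?_, hne 3 ?_, hne 13 ?_⟩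
  · rw [← L_mul, ← L_mul, ← pow_add, ← pow_add]
  · rw [← L_pow, ← pow_mul, h39, L_one]
  · rw [← L_pow, ← pow_mul, h39, L_one]
  · intro h
    have := orderOf_dvd_of_pow_eq_one h
    rw [hz] at this
    norm_num at this
  · intro h
    have := orderOf_dvd_of_pow_eq_one h
    rw [hz] at this
    norm_num at this

/-- **`PSU₄(4)` has no element of order `39`.** -/
theorem no_ord_four (hF : Fintype.card F = 4 ^ 2) (z : PSU 4 F 4) : orderOf z ≠ 39 := by
  intro hz
  obtain ⟨a, b, -, -, h1, h2, h3, h4, h5, h6, h7⟩ := exists_pair hF (by norm_num) hz (Subgroup.mem_top z)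
  have h8 := fx_thirteen hF (by norm_num) h1 h4 h6
  exact h7 (no_pair hF (by norm_num) h1 h2 h3 h4 h6 h5 (fx_le_fx hF h1 h2 h3 h4 h5 (by omega)))

/-- the stabiliser of a nondegenerate point of `F⁵` -/
theorem no_ord_point (hF : Fintype.card F = 4 ^ 2) {M : Subgroup (PSU 5 F 4)} {W : Submodule F (Fin 5 → F)}
    (hW1 : finrank F W = 1) (hW : Nd (hermForm 5 F 4) W) (hM : pre M ≤ subspaceStabilizer W) {z : PSU 5 F 4} (hz : z ∈ M) :
    orderOf z ≠ 39 := by
  intro ho
  have h13 : Fact (Nat.Prime 13) := ⟨by norm_num⟩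
  have h3' : Fact (Nat.Prime 3) := ⟨by norm_num⟩
  have hr13 := natCast_ne hF h13.out (by norm_num)
  obtain ⟨a, b, ha, hb, h1, h2, h3, h4, h5, h6, h7⟩ := exists_pair hF (by norm_num) ho hz
  have h8 := fx_thirteen hF (by norm_num) h1 h4 h6
  have hWx : W ≤ fx (L a) := by
    apply le_fx hr13 h4 (inv_of_mem (hM ha))
    rw [hF, show orderOf ((4 ^ 2 : ℕ) : ZMod 13) = 3 from ord_sq_odd (q := 4) ord_thirteen (by decide)]
    omega
  have hWy : W ≤ fx (L b) := by
    obtain ⟨c, hc⟩ := nd_mod hF (s := 3) (by norm_num) h2 h5 (inv_of_mem (hM hb)) hW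
    rw [ord_three, hW1] at hc
    have h9 : W ⊓ fx (L b) = W := Submodule.eq_of_le_of_finrank_eq inf_le_left (by omega)
    rw [← h9]
    exact inf_le_right
  have h10 := Submodule.finrank_mono (le_inf hWx hWy)
  exact h7 (no_pair hF (by norm_num) h1 h2 h3 h4 h6 h5 (fx_le_fx hF h1 h2 h3 h4 h5 (by omega)))

end Lift

end Cfsg.Agent.H104.U54
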